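import Groth.Agent.GenSmooth29.Homogeneous
import Groth.Prelude.Def_NonAbH2
import Mathlib.AlgebraicGeometry.Sites.Fpqc

/-! Points of fppf exact sequences with values in an algebraically closed field, and a counting lemma. -/

set_option autoImplicit false
set_option linter.style.haveILetI false

universe u v

open CategoryTheory Limits AlgebraicGeometry MonoidalCategory CartesianMonoidalCategory MonObj GrpObj

namespace Groth.Agent.LangGen19

/-- A morphism with fppf-local sections is surjective on points in an algebraically closed field. -/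
theorem exists_lift_of_locallyTrivial {k : Type u} [Field k] {B C : Over (Spec (CommRingCat.of k))} (π : B ⟶ C)
    (h : NonAbH1.IsLocallyTrivialFor Scheme.fppfPrecoverage (Over.mk π.left : Over C.left))
    {Ω : Type u} [Field Ω] [IsAlgClosed Ω] (σ : Spec (CommRingCat.of Ω) ⟶ Spec (CommRingCat.of k))
    (y : Over.mk σ ⟶ C) : ∃ x : Over.mk σ ⟶ B, x ≫ π = y := by
  obtain ⟨R, hR, hsec⟩ := h
  obtain ⟨hsurj, hP⟩ := hR
  obtain ⟨Y, g, hg, hx⟩ := hsurj (y.left (IsLocalRing.closedPoint Ω))
  obtain @⟨Z, f, hf⟩ := hg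
  obtain ⟨s, hs⟩ := hsec f hf
  obtain ⟨-, hlfp⟩ := hP hf
  haveI : LocallyOfFinitePresentation f := hlfp
  haveI : Surjective (pullback.snd f y.left) := by
    refine ⟨fun z => ?_⟩
    obtain ⟨s', hs'⟩ := hx
    obtain rfl : z = IsLocalRing.closedPoint Ω := Subsingleton.elim (α := PrimeSpectrum Ω) _ _
    obtain ⟨w, -, hw⟩ := Scheme.Pullback.exists_preimage_pullback (f := f) (g := y.left) s' (IsLocalRing.closedPoint Ω) hs'
    exact ⟨w, hw⟩
  obtain ⟨x, hxy⟩ := GenSmooth29.exists_lift_algClosedPoint (pullback.snd f y.left) (𝟙 _)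
  have hb : (x ≫ pullback.fst f y.left ≫ s) ≫ π.left = y.left := by
    change _ ≫ _ = f at hs
    rw [Category.assoc, Category.assoc]
    erw [hs]
    rw [pullback.condition, ← Category.assoc, hxy, Category.id_comp]
  refine ⟨Over.homMk (x ≫ pullback.fst f y.left ≫ s) ?_, Over.OverMorphism.ext hb⟩
  rw [← Over.w π, ← Category.assoc, hb]
  exact Over.w y

/-- Counting the fixed points in an extension of groups. -/
theorem card_fixed_mul {A B C : Type v} [Group A] [Group B] [Group C] (i : A →* B) (π : B →* C)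
    (hi : Function.Injective i) (hπ : Function.Surjective π) (hex : ∀ b, π b = 1 ↔ b ∈ i.range)
    (θA : A → A) (θB : B →* B) (θC : C → C) (hA : ∀ a, i (θA a) = θB (i a)) (hC : ∀ b, π (θB b) = θC (π b))
    (hlang : ∀ h : A, ∃ g : A, g * (θA g)⁻¹ = h) :
    Nat.card {b : B // θB b = b} = Nat.card {a : A // θA a = a} * Nat.card {c : C // θC c = c} := by
  have hlift : ∀ t : {c : C // θC c = c}, ∃ s : {b : B // θB b = b}, π s.1 = t.1 := by
    rintro ⟨t, ht⟩
    obtain ⟨b, rfl⟩ := hπ t
    have hker : π (θB b * b⁻¹) = 1 := by rw [map_mul, map_inv, hC, ht, mul_inv_cancel]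
    obtain ⟨h, hh⟩ := (hex _).1 hker
    obtain ⟨g, hg⟩ := hlang h⁻¹
    refine ⟨⟨i g⁻¹ * b, ?_⟩, ?_⟩
    · have hθ : θB (i g) = i g * (i g)⁻¹ * θB (i g) := by rw [mul_inv_cancel, _root_.one_mul]
      have h2 : i (θA g) = i h * i g := by
        rw [← map_mul]
        congr 1
        have := congrArg (·⁻¹) hg
        simp only [_root_.mul_inv_rev, _root_.inv_inv] at this
        rw [← this, inv_mul_cancel_right]
      have h3 : θB b = i h * b := by rw [hh, inv_mul_cancel_right]
      rw [map_mul, map_inv, map_inv, ← hA, h2, h3, _root_.mul_inv_rev, _root_.mul_assoc, inv_mul_cancel_left]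
    · have h1 : π (i g⁻¹) = 1 := (hex _).2 ⟨_, rfl⟩
      rw [map_mul, h1, _root_.one_mul]
  choose s hs using hlift
  rw [← Nat.card_prod]
  refine (Nat.card_congr (Equiv.ofBijective (fun p : {a : A // θA a = a} × {c : C // θC c = c} =>
    (⟨i p.1.1 * (s p.2).1, by rw [map_mul, ← hA, p.1.2, (s p.2).2]⟩ : {b : B // θB b = b})) ⟨?_, ?_⟩)).symm
  · intro p q hpq
    have e : i p.1.1 * (s p.2).1 = i q.1.1 * (s q.2).1 := congrArg Subtype.val hpq
    have e2 : p.2 = q.2 := Subtype.ext (by
      have := congrArg π e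
      rwa [map_mul, map_mul, (hex _).2 ⟨_, rfl⟩, (hex _).2 ⟨_, rfl⟩, _root_.one_mul, _root_.one_mul, hs, hs] at this)
    rw [e2] at e
    exact Prod.ext (Subtype.ext (hi (mul_right_cancel e))) e2
  · rintro ⟨b, hb⟩
    let t : {c : C // θC c = c} := ⟨π b, by rw [← hC, hb]⟩
    have hker : π (b * (s t).1⁻¹) = 1 := by rw [map_mul, map_inv, hs, mul_inv_cancel]
    obtain ⟨a, ha⟩ := (hex _).1 hker
    refine ⟨(⟨a, hi ?_⟩, t), Subtype.ext ?_⟩
    · rw [hA, ha, map_mul, map_inv, hb, (s t).2]
    · show i a * (s t).1 = b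
      rw [ha, inv_mul_cancel_right]

end Groth.Agent.LangGen19
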