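import Groth.Agent.AbVarLib.HomDim
import Groth.Agent.AbVarLib.GeomIntegralSmooth
import Groth.Agent.SGA3cLib.GeomConn
import Groth.Agent.LangLib.Lang
import Groth.Agent.FEtDesc.Fpqc
import Groth.Prelude.Def_W4c3convisocdirimgFrobIter
import Mathlib.AlgebraicGeometry.AlgClosed.Basic

/-!
# Lang's theorem for a connected smooth group over a finite field, with a twisted Frobenius

The group is not assumed affine: the Lang map is formally unramified as Frobenius kills infinitesimals,
so it is quasi-finite and maps the generic point to the generic point.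
-/

set_option autoImplicit false
set_option linter.style.haveILetI false
set_option linter.unusedSectionVars false
set_option backward.isDefEq.respectTransparency.types false

universe u

open CategoryTheory Limits MonoidalCategory CartesianMonoidalCategory MonObj GrpObj AlgebraicGeometry

noncomputable section

attribute [local instance] Over.cartesianMonoidalCategory Over.braidedCategory

namespace Groth.Agent.LangGen19

theorem frobIter_comp {X Y : Scheme.{u}} (p : ℕ) [Fact p.Prime] [FrobSch.IsCharP X p] [FrobSch.IsCharP Y p]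
    (g : X ⟶ Y) : ∀ e : ℕ, FrobSch.frobIter X p e ≫ g = g ≫ FrobSch.frobIter Y p e
  | 0 => by simp
  | e + 1 => by
      rw [FrobSch.frobIter_succ, FrobSch.frobIter_succ, Category.assoc, frobIter_comp p g e,
        ← Category.assoc, FrobSch.frob_comp, Category.assoc]

theorem frobIter_appTop (X : Scheme.{u}) (p : ℕ) [Fact p.Prime] [FrobSch.IsCharP X p] :
    ∀ (e : ℕ) (s : Γ(X, ⊤)), (FrobSch.frobIter X p e).appTop s = s ^ p ^ e
  | 0, s => by
      rw [FrobSch.frobIter_zero, pow_zero, pow_one]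
      rfl
  | e + 1, s => by
      rw [FrobSch.frobIter_succ, Scheme.Hom.comp_appTop]
      show (FrobSch.frob X p).appTop ((FrobSch.frobIter X p e).appTop s) = _
      rw [frobIter_appTop X p e s, FrobSch.frob_appTop, ← pow_mul, ← pow_succ]

theorem specMap_of_appTop {R : CommRingCat.{u}} (f : Spec R ⟶ Spec R) (ψ : R ⟶ R) (q : ℕ)
    (hψ : ∀ x, ψ x = x ^ q) (hf : ∀ s : Γ(Spec R, ⊤), f.appTop s = s ^ q) : f = Spec.map ψ := by
  refine ext_of_isAffine ?_
  ext s
  rw [hf]
  apply (Scheme.ΓSpecIso R).commRingCatIsoToRingEquiv.injective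
  have h3 := congrArg (fun m => m.hom s) (Scheme.ΓSpecIso_naturality ψ)
  rw [map_pow, ← hψ]
  exact h3.symm

section Frob

variable {k : Type u} [Field k] (p : ℕ) [Fact p.Prime] [CharP k p] (e : ℕ)

/-- The `p ^ e`-th power Frobenius of a `k`-scheme, as a morphism of schemes. -/
def frQ (Z : Over (Spec (CommRingCat.of k))) : Z.left ⟶ Z.left :=
  haveI := FrobSch.IsCharP.of_hom Z.hom p
  FrobSch.frobIter Z.left p e

theorem frQ_comp {Z Y : Over (Spec (CommRingCat.of k))} (g : Z ⟶ Y) :
    frQ p e Z ≫ g.left = g.left ≫ frQ p e Y := by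
  haveI := FrobSch.IsCharP.of_hom Z.hom p
  haveI := FrobSch.IsCharP.of_hom Y.hom p
  exact frobIter_comp p g.left e

theorem frQ_appTop (Z : Over (Spec (CommRingCat.of k))) (s : Γ(Z.left, ⊤)) :
    (frQ p e Z).appTop s = s ^ p ^ e := by
  haveI := FrobSch.IsCharP.of_hom Z.hom p
  exact frobIter_appTop Z.left p e s

theorem frQ_hom [Finite k] (he : Nat.card k = p ^ e) (Z : Over (Spec (CommRingCat.of k))) :
    frQ p e Z ≫ Z.hom = Z.hom := by
  haveI := Fintype.ofFinite k
  haveI := FrobSch.IsCharP.of_hom Z.hom p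
  show FrobSch.frobIter Z.left p e ≫ Z.hom = Z.hom
  rw [frobIter_comp p Z.hom e]
  have : FrobSch.frobIter (Spec (CommRingCat.of k)) p e = 𝟙 _ := by
    rw [specMap_of_appTop (R := CommRingCat.of k) _ (𝟙 _) (p ^ e) (fun x => ?_)
      (frobIter_appTop _ p e), Spec.map_id]
    rw [← he, Nat.card_eq_fintype_card]
    exact (FiniteField.pow_card x).symm
  rw [this, Category.comp_id]

/-- The Frobenius relative to `k` of a scheme over the finite field `k`. -/
def frk [Finite k] (he : Nat.card k = p ^ e) (Z : Over (Spec (CommRingCat.of k))) : Z ⟶ Z :=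
  Over.homMk (frQ p e Z) (frQ_hom p e he Z)

theorem frk_comp [Finite k] (he : Nat.card k = p ^ e) {Z Y : Over (Spec (CommRingCat.of k))} (g : Z ⟶ Y) :
    frk p e he Z ≫ g = g ≫ frk p e he Y :=
  Over.OverMorphism.ext (frQ_comp p e g)

/-- Frobenius identifies morphisms which agree modulo a square-zero ideal. -/
theorem frk_comp_eq [Finite k] (he : Nat.card k = p ^ e) (he0 : e ≠ 0) {R S : CommRingCat.{u}} (φ : R ⟶ S)
    (hφ : Function.Surjective φ) (hI : RingHom.ker φ.hom ^ 2 = ⊥) (σ : Spec R ⟶ Spec (CommRingCat.of k))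
    {Y : Scheme.{u}} (g₁ g₂ : Spec R ⟶ Y) (h : Spec.map φ ≫ g₁ = Spec.map φ ≫ g₂) :
    frQ p e (Over.mk σ) ≫ g₁ = frQ p e (Over.mk σ) ≫ g₂ := by
  have hpR : (p : R) = 0 := by
    haveI : FrobSch.IsCharP (Spec R) p := FrobSch.IsCharP.of_hom σ p
    have := congrArg (Scheme.ΓSpecIso R).hom (FrobSch.IsCharP.natCast_eq_zero (X := Spec R) (p := p))
    simpa using this
  have hq : ((p ^ e : ℕ) : R) = 0 := by rw [Nat.cast_pow, hpR, zero_pow he0]
  obtain ⟨t, ht⟩ := hφ.hasRightInverse
  have key : ∀ x y, φ x = φ y → x ^ p ^ e = y ^ p ^ e := fun x y hxy => by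
    refine LangLib.pow_eq_pow_of_sub_sq _ hq x y ?_
    have hmem : x - y ∈ RingHom.ker φ.hom := by
      rw [RingHom.mem_ker, map_sub]
      exact sub_eq_zero.2 hxy
    rw [← Ideal.mem_bot, ← hI]
    exact Ideal.pow_mem_pow hmem 2
  let ψ : S →+* R :=
    { toFun := fun x => t x ^ p ^ e
      map_one' := by rw [key (t 1) 1 (by rw [ht, map_one]), one_pow]
      map_mul' := fun a b => by rw [key (t (a * b)) (t a * t b) (by rw [map_mul, ht, ht, ht]), mul_pow]
      map_zero' := by rw [key (t 0) 0 (by rw [ht, map_zero]), zero_pow (pow_ne_zero _ (Fact.out : p.Prime).ne_zero)]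
      map_add' := fun a b => by
        rw [key (t (a + b)) (t a + t b) (by rw [map_add, ht, ht, ht])]
        rcases subsingleton_or_nontrivial R with hR | hR
        · exact Subsingleton.elim _ _
        · haveI : CharP R p := (CharP.charP_iff_prime_eq_zero Fact.out).2 hpR
          exact add_pow_char_pow (R := R) (p := p) (n := e) (t a) (t b) }
  have hfac : frQ p e (Over.mk σ) = Spec.map (CommRingCat.ofHom ψ) ≫ Spec.map φ := by
    rw [← Spec.map_comp]
    refine specMap_of_appTop (R := R) _ _ (p ^ e) (fun x => ?_) (frQ_appTop p e (Over.mk σ))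
    exact key _ _ (ht _)
  rw [hfac, Category.assoc, Category.assoc, h]

end Frob

section Lang

variable {k : Type u} [Field k] [Finite k] (p : ℕ) [Fact p.Prime] [CharP k p] (e : ℕ) (he : Nat.card k = p ^ e)
  {G T : Over (Spec (CommRingCat.of k))} (α : G ⊗ T ⟶ G)

/-- The twisted Frobenius. -/
def theta : G ⊗ T ⟶ G := (frk p e he G ▷ T) ≫ α

theorem comp_theta {Z : Over (Spec (CommRingCat.of k))} (a : Z ⟶ G ⊗ T) :
    a ≫ theta p e he α = CartesianMonoidalCategory.lift ((a ≫ fst G T) ≫ frk p e he G) (a ≫ snd G T) ≫ α := by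
  rw [theta, ← Category.assoc]
  congr 1
  ext <;> simp

variable [GrpObj G]

/-- The twisted Lang map `g ↦ g * h * θ(g)⁻¹`. -/
def langMap (h : T ⟶ G) : G ⊗ T ⟶ G ⊗ T :=
  CartesianMonoidalCategory.lift (fst G T * (snd G T ≫ h) * (theta p e he α)⁻¹) (snd G T)

theorem comp_langMap (h : T ⟶ G) {Z : Over (Spec (CommRingCat.of k))} (a : Z ⟶ G ⊗ T) :
    a ≫ langMap p e he α h =
      CartesianMonoidalCategory.lift (a ≫ fst G T * ((a ≫ snd G T) ≫ h) * (a ≫ theta p e he α)⁻¹)
        (a ≫ snd G T) := by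
  simp [langMap, MonObj.comp_mul, GrpObj.comp_inv, comp_lift]

/-- The twisted Lang map is injective on morphisms identified by Frobenius. -/
theorem langMap_inj (h : T ⟶ G) {Z : Over (Spec (CommRingCat.of k))} (a b : Z ⟶ G ⊗ T)
    (hq : frk p e he Z ≫ a = frk p e he Z ≫ b)
    (hab : a ≫ langMap p e he α h = b ≫ langMap p e he α h) : a = b := by
  rw [comp_langMap, comp_langMap] at hab
  have h2 : a ≫ snd G T = b ≫ snd G T := by simpa using congrArg (· ≫ snd G T) hab
  have hF : (a ≫ fst G T) ≫ frk p e he G = (b ≫ fst G T) ≫ frk p e he G := by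
    rw [← frk_comp p e he (a ≫ fst G T), ← frk_comp p e he (b ≫ fst G T), ← Category.assoc, hq, Category.assoc]
  have h1 := congrArg (· ≫ fst G T) hab
  simp only [lift_fst] at h1
  rw [comp_theta, comp_theta, hF, h2] at h1
  exact CartesianMonoidalCategory.hom_ext _ _ (mul_right_cancel (mul_right_cancel h1)) h2

theorem formallyUnramified_langMap (h : T ⟶ G) (he0 : e ≠ 0) : FormallyUnramified (langMap p e he α h).left := by
  refine FormallyUnramified.of_hom_ext _ fun R S φ hφ hI g₁ g₂ hφg hL => ?_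
  have hw : g₁ ≫ (G ⊗ T).hom = g₂ ≫ (G ⊗ T).hom := by
    rw [← Over.w (langMap p e he α h), ← Category.assoc, hL, Category.assoc]
  let a : Over.mk (g₁ ≫ (G ⊗ T).hom) ⟶ G ⊗ T := Over.homMk g₁ rfl
  let b : Over.mk (g₁ ≫ (G ⊗ T).hom) ⟶ G ⊗ T := Over.homMk g₂ hw.symm
  exact congrArg CommaMorphism.left (langMap_inj p e he α h a b
    (Over.OverMorphism.ext (frk_comp_eq p e he he0 φ hφ hI _ g₁ g₂ hφg)) (Over.OverMorphism.ext hL))

variable {α}

/-- **Lang's theorem** for a twisted Frobenius, on points with values in an algebraically closed field. -/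
theorem exists_mul_inv_theta_eq [Smooth G.hom] [QuasiCompact G.hom] [ConnectedSpace G.left] (he0 : e ≠ 0)
    (Ω : Type u) [Field Ω] [IsAlgClosed Ω] (σ : Spec (CommRingCat.of Ω) ⟶ Spec (CommRingCat.of k))
    (α : G ⊗ Over.mk σ ⟶ G)
    (hα : ∀ {Z : Over (Spec (CommRingCat.of k))} (a b : Z ⟶ G) (t : Z ⟶ Over.mk σ),
      CartesianMonoidalCategory.lift (a * b) t ≫ α =
        (CartesianMonoidalCategory.lift a t ≫ α) * (CartesianMonoidalCategory.lift b t ≫ α))
    (h : Over.mk σ ⟶ G) :
    ∃ g : Over.mk σ ⟶ G,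
      g * (CartesianMonoidalCategory.lift (frk p e he (Over.mk σ) ≫ g) (𝟙 _) ≫ α)⁻¹ = h := by
  let T := Over.mk σ
  let π : (G ⊗ T).left ⟶ Spec (CommRingCat.of Ω) := (snd G T).left
  have hπw : π ≫ σ = (G ⊗ T).hom := Over.w (snd G T)
  have : Smooth π := inferInstanceAs (Smooth (pullback.snd G.hom T.hom))
  have : QuasiCompact π := inferInstanceAs (QuasiCompact (pullback.snd G.hom T.hom))
  have : GeometricallyConnected G.hom := by
    have := SGA3cLib.geometricallyConnected_of_rational_point k G.hom (𝟙 G.left) η[G].left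
      (Over.w η[G]) (by simp)
    rwa [Category.id_comp] at this
  have : ConnectedSpace ↥(G ⊗ T).left :=
    GeometricallyConnected.geometrically_connectedSpace (f := G.hom) _ _ _ (IsPullback.of_hasPullback G.hom σ)
  have : IsIntegral (G ⊗ T).left := AbVarLib.isIntegral_of_smooth_connected π
  have : LocallyOfFiniteType π := inferInstance
  have : JacobsonSpace ↥(G ⊗ T).left := LocallyOfFiniteType.jacobsonSpace π
  have : IsLocallyNoetherian (G ⊗ T).left := LocallyOfFiniteType.isLocallyNoetherian π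
  have : CompactSpace ↥(G ⊗ T).left := QuasiCompact.compactSpace_of_compactSpace π
  have : IsNoetherian (G ⊗ T).left := { }
  let η₀ := genericPoint ↥(G ⊗ T).left
  have hover : ∀ l : T ⟶ G, (langMap p e he α l).left ≫ π = π := fun l =>
    congrArg CommaMorphism.left (show langMap p e he α l ≫ snd G T = snd G T from lift_snd _ _)
  have hgen : ∀ l : T ⟶ G, (langMap p e he α l).left η₀ = η₀ := by
    intro l
    set L := (langMap p e he α l).left
    have : LocallyOfFiniteType (L ≫ π) := by rw [hover]; infer_instance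
    have : LocallyOfFiniteType L := locallyOfFiniteType_of_comp L π
    have := formallyUnramified_langMap p e he α l he0
    have := FEtDesc.locallyQuasiFinite_of_formallyUnramified L
    have h1 := AbVarLib.ptDim_eq_of_lqf π L η₀
    rw [show L ≫ π = π from hover l] at h1
    by_contra hne
    exact (DimLib.ptDim_lt_of_specializes π (genericPoint_specializes _) (Ne.symm hne)).ne h1.symm
  have hcons : ∀ l : T ⟶ G, Topology.IsConstructible (Set.range (langMap p e he α l).left) := fun l => by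
    have : LocallyOfFiniteType ((langMap p e he α l).left ≫ π) := by rw [hover]; infer_instance
    have : LocallyOfFiniteType (langMap p e he α l).left := locallyOfFiniteType_of_comp _ π
    have : LocallyOfFinitePresentation (langMap p e he α l).left :=
      LocallyOfFinitePresentation.iff_locallyOfFiniteType.2 ‹_›
    rw [← Set.image_univ]
    exact (langMap p e he α l).left.isConstructible_image Topology.IsConstructible.univ
  obtain ⟨z, ⟨⟨z₁, hz₁⟩, ⟨z₂, hz₂⟩⟩, hzc⟩ := LangLib.exists_closedPoint_of_isConstructible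
    ((hcons 1).inter (hcons h)) ⟨η₀, ⟨η₀, hgen 1⟩, ⟨η₀, hgen h⟩⟩
  have hlift : ∀ (l : T ⟶ G) (w : ↥(G ⊗ T).left), (langMap p e he α l).left w = z →
      ∃ q : T ⟶ G ⊗ T, q ≫ snd G T = 𝟙 T ∧
        (q ≫ langMap p e he α l).left (IsLocalRing.closedPoint Ω) = z := by
    intro l w hw
    obtain ⟨w', hw', hw'c⟩ := nonempty_inter_closedPoints
      (Z := (langMap p e he α l).left ⁻¹' {z}) ⟨w, hw⟩
      (hzc.preimage (langMap p e he α l).left.continuous).isLocallyClosed
    let q : T ⟶ G ⊗ T := Over.homMk (pointOfClosedPoint π w' hw'c) (by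
      rw [← hπw, pointOfClosedPoint_comp_assoc]; rfl)
    refine ⟨q, Over.OverMorphism.ext (pointOfClosedPoint_comp π w' hw'c), ?_⟩
    change (langMap p e he α l).left (pointOfClosedPoint π w' hw'c _) = z
    rw [pointOfClosedPoint_apply]
    exact hw'
  obtain ⟨q₁, hq₁, e₁⟩ := hlift 1 z₁ hz₁
  obtain ⟨q₂, hq₂, e₂⟩ := hlift h z₂ hz₂
  have hs : ∀ (l : T ⟶ G) (q : T ⟶ G ⊗ T), q ≫ snd G T = 𝟙 T →
      (q ≫ langMap p e he α l).left ≫ π = 𝟙 _ := fun l q hq => congrArg CommaMorphism.left
    (show (q ≫ langMap p e he α l) ≫ snd G T = 𝟙 T by simp [langMap, hq])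
  have heq : q₁ ≫ langMap p e he α 1 = q₂ ≫ langMap p e he α h := Over.OverMorphism.ext
    (ext_of_apply_closedPoint_eq π (hs 1 q₁ hq₁) (hs h q₂ hq₂) (e₁.trans e₂.symm))
  rw [comp_langMap, comp_langMap, hq₁, hq₂] at heq
  have heq' := congrArg (· ≫ fst G T) heq
  simp only [lift_fst, Category.id_comp, _root_.mul_one] at heq'
  refine ⟨(q₂ ≫ fst G T)⁻¹ * (q₁ ≫ fst G T), ?_⟩
  let φ : (T ⟶ G) →* (T ⟶ G) := MonoidHom.mk' (fun g => CartesianMonoidalCategory.lift (frk p e he T ≫ g) (𝟙 T) ≫ α)
    (fun a b => by rw [MonObj.comp_mul, hα])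
  have hθ : ∀ q : T ⟶ G ⊗ T, q ≫ snd G T = 𝟙 T → q ≫ theta p e he α = φ (q ≫ fst G T) := fun q hq => by
    rw [comp_theta, ← frk_comp, hq]
    rfl
  rw [hθ q₁ hq₁, hθ q₂ hq₂] at heq'
  show _ * (φ _)⁻¹ = h
  rw [map_mul, map_inv, _root_.mul_inv_rev, _root_.inv_inv,
    _root_.mul_assoc, ← _root_.mul_assoc (q₁ ≫ fst G T), heq']
  group

end Lang

end Groth.Agent.LangGen19
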