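import Groth.Agent.LangGen19.Main
import Groth.Agent.LangGen19.Exact
import Groth.Agent.Stk19b.Count.Twist

/-! Lang's theorem for the twisted Frobenius of a connected normal subgroup. -/

set_option autoImplicit false
set_option linter.style.haveILetI false
set_option backward.isDefEq.respectTransparency false
set_option backward.isDefEq.respectTransparency.types false

universe u

open CategoryTheory AlgebraicGeometry MonoidalCategory CartesianMonoidalCategory MonObj GrpObj

namespace Groth.Agent.LangGen19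

variable {k : Type u} [Field k] {A B C : Over (Spec (CommRingCat.of k))} [GrpObj A] [GrpObj B] [GrpObj C]
  {i : A ⟶ B} {π : B ⟶ C}

theorem injective_of_exact (hex : NonAbH1.IsExactSeq Scheme.fppfPrecoverage i π)
    {T : Over (Spec (CommRingCat.of k))} : Function.Injective (fun a : T ⟶ A => a ≫ i) := by
  obtain ⟨hi, hπ, hiπ, hpb, hloc⟩ := hex
  intro a a' h
  have key : lift (1 : T ⟶ B) a = lift 1 a' := by
    refine hpb.hom_ext ?_ ?_
    · rw [lift_fst, lift_fst]
    · have h1 : ∀ x : T ⟶ A, lift (1 : T ⟶ B) x ≫ B ◁ i ≫ μ[B] = x ≫ i := fun x => by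
        rw [← Category.assoc, lift_whiskerLeft]
        exact _root_.one_mul (x ≫ i)
      rw [h1, h1]
      exact h
  simpa using congrArg (· ≫ snd B A) key

theorem exists_eq_comp_of_exact (hex : NonAbH1.IsExactSeq Scheme.fppfPrecoverage i π)
    {T : Over (Spec (CommRingCat.of k))} (b : T ⟶ B) (hb : b ≫ π = 1) : ∃ a : T ⟶ A, a ≫ i = b := by
  obtain ⟨hi, hπ, hiπ, hpb, hloc⟩ := hex
  haveI := hπ
  have h1 : (1 : T ⟶ B) ≫ π = b ≫ π := by
    rw [MonObj.one_comp]
    exact hb.symm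
  refine ⟨hpb.lift 1 b h1 ≫ snd B A, ?_⟩
  have h3 := hpb.lift_snd 1 b h1
  have e2 : hpb.lift 1 b h1 = lift 1 (hpb.lift 1 b h1 ≫ snd B A) :=
    CartesianMonoidalCategory.hom_ext _ _ (by rw [lift_fst]; exact hpb.lift_fst 1 b h1) (by rw [lift_snd])
  rw [e2, ← Category.assoc, lift_whiskerLeft] at h3
  exact (_root_.one_mul _).symm.trans h3

variable {kb : Type u} [Field kb] [Algebra k kb] [IsAlgClosed kb] [Finite k]

/-- Every point of the connected kernel is a twisted Lang image, inside the middle group. -/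
theorem exists_twisted_lang [Smooth A.hom] [QuasiCompact A.hom] [ConnectedSpace A.left]
    (hex : NonAbH1.IsExactSeq Scheme.fppfPrecoverage i π) (b : SGA7.Pts kb B) (h : SGA7.Pts kb A) :
    ∃ g : SGA7.Pts kb A,
      (g ≫ i) * (b * (Stk19b.Count.frM k k kb ≫ g ≫ i) * b⁻¹)⁻¹ = h ≫ i := by
  classical
  letI := Fintype.ofFinite k
  obtain ⟨p, hchar⟩ := CharP.exists k
  obtain ⟨⟨e, he0⟩, hp, he⟩ := FiniteField.card k p
  haveI : Fact p.Prime := ⟨hp⟩
  replace he : Nat.card k = p ^ e := by rw [Nat.card_eq_fintype_card]; exact he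
  obtain ⟨hi, hπ, hiπ, hpb, hloc⟩ := id hex
  haveI := hi
  haveI := hπ
  have hfr : Stk19b.Count.frM k k kb = frk p e he (SGA7.pt (K := k) kb) := by
    apply Over.OverMorphism.ext
    refine (specMap_of_appTop (R := CommRingCat.of kb) _ _ (Nat.card k) (fun x => ?_) fun s => ?_).symm
    · exact Stk19b.Count.frobHom_apply k kb x
    · rw [he]
      exact frQ_appTop p e (SGA7.pt (K := k) kb) s
  let y : A ⊗ SGA7.pt (K := k) kb ⟶ B := (snd _ _ ≫ b) * (fst _ _ ≫ i) * (snd _ _ ≫ b)⁻¹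
  obtain ⟨α, hαy⟩ := exists_eq_comp_of_exact hex y (by
    simp only [y, MonObj.mul_comp, GrpObj.inv_comp, Category.assoc, hiπ, MonObj.comp_one, _root_.mul_one, mul_inv_cancel])
  have hα : ∀ {Z : Over (Spec (CommRingCat.of k))} (a : Z ⟶ A) (t : Z ⟶ SGA7.pt (K := k) kb),
      (lift a t ≫ α) ≫ i = (t ≫ b) * (a ≫ i) * (t ≫ b)⁻¹ := fun a t => by
    rw [Category.assoc, hαy]
    simp [y, MonObj.comp_mul, GrpObj.comp_inv]
  have hmul : ∀ {Z : Over (Spec (CommRingCat.of k))} (a a' : Z ⟶ A) (t : Z ⟶ SGA7.pt (K := k) kb),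
      lift (a * a') t ≫ α = (lift a t ≫ α) * (lift a' t ≫ α) := fun a a' t => by
    apply injective_of_exact hex
    show (_ ≫ α) ≫ i = (_ * _) ≫ i
    rw [MonObj.mul_comp, hα, hα, hα, MonObj.mul_comp]
    group
  obtain ⟨g, hg⟩ := exists_mul_inv_theta_eq p e he (by omega) kb _ α hmul h
  refine ⟨g, ?_⟩
  have hg' : (g * (lift (frk p e he (SGA7.pt (K := k) kb) ≫ g) (𝟙 (SGA7.pt (K := k) kb)) ≫ α)⁻¹) ≫ i = h ≫ i :=
    congrArg (· ≫ i) hg
  rw [MonObj.mul_comp, GrpObj.inv_comp, hα, Category.id_comp, Category.assoc, ← hfr] at hg'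
  exact hg'

end Groth.Agent.LangGen19
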